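import Cfsg.Agent.EvenLocal.ZJClosed

/-!
The ZJ induction with stability assumed only for members of the family acting inside the normal
closure of `Z(J)`.
-/

set_option autoImplicit false
set_option linter.style.haveILetI false

namespace Cfsg.Agent.EvenLocal

open Subgroup
open scoped commutatorElement Pointwise

variable {G : Type*} [Group G] [Finite G] {p : ℕ} [Fact p.Prime] {D : Subgroup G}
  {fam : Set (Subgroup G)} {Q : G → Prop}

theorem centerFamily_inf_normal_of_members (hp2 : p ≠ 2) (P : Sylow p G)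
    (hD : Cfsg.IsStronglyClosed D (P : Subgroup G)) (hF : ThompsonFamily D fam Q)
    (hst : ∀ (B : Subgroup G) [B.Normal], IsPGroup p B →
      B ≤ normalClosure ((sInf fam : Subgroup G) : Set G) → ∀ A ∈ fam, ∀ a ∈ A,
        (∀ β ∈ B, ⁅⁅β, a⁆, a⁆ = 1) → a ∈ H4.stabCore p B) :
    ∀ (B : Subgroup G), B.Normal → IsPGroup p B → (sInf fam ⊓ B).Normal := by
  classical
  intro B
  induction B using WellFoundedLT.induction with
  | ind B ih =>
  intro hBn hBp
  set Z := sInf fam with hZdef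
  set W := Z ⊓ B with hWdef
  haveI := hBn
  have hBP : B ≤ (P : Subgroup G) := (PSolv.le_pCore hBn hBp).trans (PSolv.pCore_le_sylow P)
  have hPD : (P : Subgroup G) ≤ normalizer (D : Set G) := le_normalizer_iff.2 fun g hg x hx =>
    hD.2 x hx g (mul_mem (mul_mem hg (hD.1 hx)) (inv_mem hg))
  have hPZ : (P : Subgroup G) ≤ normalizer (Z : Set G) := fun g hg => hF.normalizer_le (hPD hg)
  have hZP : Z ≤ (P : Subgroup G) := hF.sInf_le_dom.trans hD.1
  rcases eq_or_ne B ⊥ with hBbot | hBbot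
  · rw [hWdef, hBbot, inf_bot_eq]; infer_instance
  set B1 := normalClosure (W : Set G) with hB1def
  have hB1le : B1 ≤ B := normalClosure_le_normal (fun x hx => hx.2)
  rcases hB1le.lt_or_eq with hlt | hB1
  · have h := ih B1 hlt inferInstance (hBp.to_le hB1le)
    have heq : Z ⊓ B1 = W := le_antisymm (inf_le_inf_left _ hB1le)
      (le_inf inf_le_left subset_normalClosure)
    rwa [← heq]
  set F := (frattini B).map B.subtype with hFdef
  have hBnt : Nontrivial B := B.nontrivial_iff_ne_bot.mpr hBbot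
  have hFlt : F < B := by
    refine lt_of_le_of_ne (map_subtype_le _) fun he => ?_
    have htop : frattini B = ⊤ := eq_top_iff.mpr fun y _ => by
      obtain ⟨w, hw, hwy⟩ := he.ge y.2
      exact Subtype.ext (a1 := w) (a2 := y) hwy ▸ hw
    have h := frattini_nongenerating (K := (⊥ : Subgroup B)) (by rw [htop, sup_top_eq])
    exact bot_ne_top h
  haveI hFn : F.Normal := PSolv.map_subtype_normal inferInstance
  set N := Z ⊓ F with hNdef
  haveI hNn : N.Normal := ih F hFlt hFn (hBp.to_le hFlt.le)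
  have hgen : ∀ (S : Subgroup G), (∀ w ∈ W, ∀ g : G, g * w * g⁻¹ ∈ S) → B ≤ S := by
    intro S hS
    rw [← hB1, hB1def, normalClosure, closure_le]
    intro x hx
    obtain ⟨w, hw, hc⟩ := Group.mem_conjugatesOfSet_iff.mp hx
    obtain ⟨g, rfl⟩ := isConj_iff.mp hc
    exact hS w hw g
  have hcF : ∀ x ∈ B, ∀ y ∈ B, ⁅x, y⁆ ∈ F := fun x hx y hy =>
    ⟨⁅(⟨x, hx⟩ : B), ⟨y, hy⟩⁆, PGroup.commutatorElement_mem_frattini hBp _ _, rfl⟩
  have hNB : B ≤ centralizer (N : Set G) := by
    refine hgen _ fun w hw g => mem_centralizer_iff.mpr fun n hn => ?_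
    have hn' : g⁻¹ * n * g ∈ N := by simpa using hNn.conj_mem n hn g⁻¹
    have h1 := Modules.comm_iff.1 hF.sInf_comm _ hn'.1 w hw.1
    calc n * (g * w * g⁻¹) = g * (g⁻¹ * n * g * w) * g⁻¹ := by group
      _ = g * (w * (g⁻¹ * n * g)) * g⁻¹ := by rw [h1]
      _ = g * w * g⁻¹ * n := by group
  have hBN : ∀ x ∈ B, ∀ y ∈ B, ⁅x, y⁆ ∈ N := by
    let S : Subgroup G :=
      { carrier := {x | x ∈ B ∧ ∀ y ∈ B, ⁅x, y⁆ ∈ N}
        one_mem' := ⟨one_mem _, fun y _ => by simp⟩
        mul_mem' := fun {a b} ha hb => ⟨B.mul_mem ha.1 hb.1, fun y hy => by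
          rw [Modules.commutatorElement_mul_left]
          exact N.mul_mem (hNn.conj_mem _ (hb.2 y hy) a) (ha.2 y hy)⟩
        inv_mem' := fun {a} ha => ⟨B.inv_mem ha.1, fun y hy => by
          have h1 : ⁅a⁻¹, y⁆ = a⁻¹ * ⁅a, y⁆⁻¹ * a := by simp [commutatorElement_def, mul_assoc]
          rw [h1]
          simpa using hNn.conj_mem _ (N.inv_mem (ha.2 y hy)) a⁻¹⟩ }
    have hle : B ≤ S := by
      refine hgen S fun w hw g => ⟨hBn.conj_mem w hw.2 g, fun y hy => ?_⟩
      have hy' : g⁻¹ * y * g ∈ B := by simpa using hBn.conj_mem y hy g⁻¹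
      have h1 : ⁅g * w * g⁻¹, y⁆ = g * ⁅w, g⁻¹ * y * g⁆ * g⁻¹ := by
        simp [commutatorElement_def, mul_assoc]
      rw [h1]
      refine hNn.conj_mem _ ⟨?_, hcF w hw.2 _ hy'⟩ g
      have h2 := (mem_normalizer_iff.mp (hPZ (hBP hy')) w⁻¹).mp (inv_mem hw.1)
      simpa [commutatorElement_def, mul_assoc] using Z.mul_mem hw.1 h2
    exact fun x hx y hy => (hle hx).2 y hy
  have hQB : ∀ x ∈ B, Q x := by
    refine hF.closed B (fun x hx y hy z hz => ?_) {x | ∃ w ∈ W, ∃ g : G, g * w * g⁻¹ = x} ?_ ?_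
    · exact mem_centralizer_iff.mp (hNB hz) _ (hBN x hx y hy)
    · refine le_antisymm (hgen _ fun w hw g => subset_closure ⟨w, hw, g, rfl⟩) ((closure_le _).2 ?_)
      rintro - ⟨w, hw, g, rfl⟩
      exact hBn.conj_mem w hw.2 g
    · rintro - ⟨w, hw, g, rfl⟩
      exact hF.conjQ w g (hF.propZ w hw.1)
  set L := H4.stabCore p B with hLdef
  haveI hLn : L.Normal := H4.stabCore_normal B
  have hBL : B ≤ L := H4.le_stabCore hBn fun g hg => by
    obtain ⟨j, hj⟩ := hBp ⟨g, hg⟩
    exact ⟨j, by rw [show g ^ p ^ j = 1 from congrArg Subtype.val hj]; exact one_mem _⟩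
  set PL := (P : Subgroup G) ⊓ L with hPL
  have hCW : centralizer (B : Set G) ≤ centralizer (W : Set G) := centralizer_le inf_le_right
  have hfr : centralizer (B : Set G) ⊔ normalizer (PL : Set G) = ⊤ := by
    let T : Sylow p L := (P.2.comap_subtype (K := L)).toSylow
      (show ¬ p ∣ ((P : Subgroup G).subgroupOf L).index from fun hd =>
        Sylow.not_dvd_index P (hd.trans (PSolv.relIndex_dvd_index_of_normal_right (P : Subgroup G) L)))
    have hcomap : centralizer (B : Set G) ⊔ PL ≥ L := by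
      have hle : ((centralizer (B : Set G) ⊔ PL).subgroupOf L) = ⊤ := by
        refine Transfer.eq_top_of_sylow_le T (fun x hx => ?_) fun g hg => ?_
        · exact mem_sup_right (show (x : G) ∈ PL from ⟨hx, x.2⟩)
        · refine mem_sup_left ?_
          obtain ⟨n, hn⟩ := H4.exists_pow_mem_centralizer (p := p) g.2
          have hcop : Nat.Coprime (p ^ n) (orderOf (g : G)) := by
            rw [orderOf_coe]
            exact (Nat.Coprime.pow_right n hg).symm
          obtain ⟨m, hm⟩ := exists_pow_eq_self_of_coprime hcop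
          show (g : G) ∈ centralizer (B : Set G)
          rw [← hm]
          exact pow_mem hn m
      exact fun x hx => subgroupOf_eq_top.mp hle hx
    have htop := T.normalizer_sup_eq_top
    have hT : (T : Subgroup L).map L.subtype = PL := subgroupOf_map_subtype _ _
    rw [hT] at htop
    rw [eq_top_iff, ← htop]
    refine sup_le le_sup_right (hcomap.trans (sup_le le_sup_left ?_))
    exact le_normalizer.trans le_sup_right
  -- elements normalizing `P ⊓ L` permute the members inside `L`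
  have hperm : ∀ g ∈ normalizer (PL : Set G), ∀ A ∈ fam, A ≤ L →
      A.map (MulAut.conj g).toMonoidHom ∈ fam ∧ A.map (MulAut.conj g).toMonoidHom ≤ L := by
    intro g hg A hA hAL
    have hle : A.map (MulAut.conj g).toMonoidHom ≤ L := by
      rintro - ⟨a, ha, rfl⟩
      exact hLn.conj_mem a (hAL ha) g
    refine ⟨hF.conj A hA g ?_, hle⟩
    rintro - ⟨a, ha, rfl⟩
    exact hD.2 a (hF.le A hA ha) g
      ((mem_normalizer_iff.1 hg a).1 ⟨hD.1 (hF.le A hA ha), hAL ha⟩).1
  by_cases hall : ∀ A ∈ fam, A ≤ L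
  · have hNW : ∀ g ∈ normalizer (PL : Set G), ∀ x ∈ W, g * x * g⁻¹ ∈ W := by
      intro g hg x hx
      refine ⟨mem_sInf.2 fun A hA => ?_, hBn.conj_mem x hx.2 g⟩
      obtain ⟨a, ha, hax⟩ := mem_sInf.1 hx.1 _ (hperm g⁻¹ (inv_mem hg) A hA (hall A hA)).1
      rw [← hax]
      simpa [mul_assoc] using ha
    rw [← normalizer_eq_top_iff, eq_top_iff, ← hfr]
    exact sup_le (hCW.trans (centralizer_le_normalizer _)) (le_normalizer_iff.2 hNW)
  exfalso
  obtain ⟨A, ⟨hA, hAL⟩, hAmax⟩ := Set.exists_max_image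
    {A | A ∈ fam ∧ ¬ A ≤ L} (fun A => Nat.card (A ⊓ B : Subgroup G)) (Set.toFinite _) (by
      push Not at hall
      obtain ⟨A, h1, h2⟩ := hall
      exact ⟨A, h1, h2⟩)
  have hAP : A ≤ (P : Subgroup G) := (hF.le A hA).trans hD.1
  by_cases hBA : B ≤ normalizer (A : Set G)
  · refine hAL fun a ha => hst B hBp (hB1.ge.trans (normalClosure_mono inf_le_left)) A hA a ha
      fun β hβ => ?_
    have h1 : ⁅β, a⁆ ∈ A := by
      simpa [commutatorElement_def, mul_assoc] using
        A.mul_mem ((mem_normalizer_iff.mp (hBA hβ) a).mp ha) (A.inv_mem ha)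
    exact commutatorElement_eq_one_iff_mul_comm.mpr (Modules.comm_iff.mp (hF.comm A hA) _ h1 a ha)
  have hBBA : ⁅B, B⁆ ≤ A := commutator_le.2 fun x hx y hy =>
    (sInf_le hA : Z ≤ A) (hBN x hx y hy).1
  obtain ⟨A', hA'D, hA'c, hA'card, hlt, hA'N, hA'e⟩ := exists_replacement_within hp2 P.2 hAP hBP
    (hF.comm A hA) hBBA (by rw [normalizer_eq_top (H := B)]; exact le_top) hBA (hF.le A hA) hD.1 hPD
  have hA' := hF.repl A hA A' hA'D hA'c hA'card hA'e
  have hA'L : A' ≤ L := by
    by_contra h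
    exact absurd (hAmax A' ⟨hA', h⟩) (not_le.mpr (Set.ncard_lt_ncard hlt (Set.toFinite _)))
  -- `B` lies in `D` and centralizes every member inside `L`
  have hBgen : ∀ (X : Subgroup G), (∀ w ∈ W, ∀ n ∈ normalizer (PL : Set G), n * w * n⁻¹ ∈ X) →
      B ≤ X := by
    intro X hX
    refine hgen _ fun w hw g => ?_
    obtain ⟨c, hc, n, hn, rfl⟩ : g ∈ ((centralizer (B : Set G) : Subgroup G) : Set G) *
        ((normalizer (PL : Set G) : Subgroup G) : Set G) := by
      rw [← coe_mul_of_right_le_normalizer_left _ _ le_normalizer_of_normal, hfr]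
      exact mem_top g
    have h1 : n * w * n⁻¹ ∈ B := hBn.conj_mem w hw.2 n
    have h2 : c * n * w * (c * n)⁻¹ = n * w * n⁻¹ := by
      calc c * n * w * (c * n)⁻¹ = c * (n * w * n⁻¹) * c⁻¹ := by group
        _ = _ := by rw [← mem_centralizer_iff.mp hc _ h1, mul_inv_cancel_right]
    rw [h2]
    exact hX w hw n hn
  have hBD : B ≤ D := hBgen D fun w hw n hn => hD.2 w (hF.sInf_le_dom hw.1) n
    ((mem_normalizer_iff.1 hn w).1 ⟨hZP hw.1, hBL hw.2⟩).1
  have hBC : B ≤ centralizer (A' : Set G) := by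
    refine hBgen _ fun w hw n hn => mem_centralizer_iff.2 fun a ha => ?_
    have hm := (hperm n⁻¹ (inv_mem hn) A' hA' hA'L).1
    have h1 := mem_centralizer_iff.1 ((sInf_le hm).trans (Modules.comm_le_centralizer (hF.comm _ hm))
      hw.1) (n⁻¹ * a * n) ⟨a, ha, by simp⟩
    calc a * (n * w * n⁻¹) = n * (n⁻¹ * a * n * w) * n⁻¹ := by group
      _ = n * (w * (n⁻¹ * a * n)) * n⁻¹ := by rw [h1]
      _ = n * w * n⁻¹ * a := by group
  exact hBA fun b hb => hA'N (hF.cent A' hA' b (hBD hb) (hBC hb) (hQB b hb))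

end Cfsg.Agent.EvenLocal
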